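import Cfsg.Agent.H430.Om7.Box
import Cfsg.Agent.H269.U5.Res
import Cfsg.Agent.H163.PG.Ord
import Cfsg.Agent.H934.OutB
import Cfsg.Agent.S2121
import Cfsg.Agent.S1059

/-!
# S3691, `Ω_7(q)`: the orders, if `X ∩ T` has a normal subgroup `G_2(q)` (helper72, box BA of helper430)
-/

set_option autoImplicit false
set_option linter.unusedSectionVars false

namespace Cfsg.Agent.H430.Om7

open Module QuadraticMap Cfsg Cfsg.Geo Cfsg.Agent.LieClassical.OrthCore Cfsg.Agent.LieClassical.OrthTrans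
  Cfsg.Agent.H454.Reg Cfsg.Agent.H884.El Cfsg.Agent.H955 Cfsg.Agent.H954.TSing Cfsg.Agent.H193.Dg Cfsg.Agent.H851.Dg
  Cfsg.Agent.H449.Reg Cfsg.Agent.H915.LD
open Cfsg.Agent.H951 (fx cm Inv)
open Cfsg.Agent.H278.Cov (Red Ext Num)
open Cfsg.Agent.LieClassical.OrthFinite (glEquiv glEquiv_apply)
open Cfsg.Agent.LieClassical.OrthForms (oddForm coe_oddForm)
open Cfsg.Agent.LieClassical.OmegaReindex
open scoped MatrixGroups Matrix

universe u

theorem center_odd7 {F : Type} [Field F] [Fintype F] (h2 : (2 : F) ≠ 0) :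
    Subgroup.center (Omega F (⇑(oddForm 3 F))) = ⊥ := by
  rw [quadOdd_eq]
  exact LieClassical.OrthCenter.center_omega_eq_bot_of_odd h2 (quadOdd_nondegenerate (F := F) (m := 3) h2)
    (by simp only [Fintype.card_sum, Fintype.card_unit, Fintype.card_fin]; omega)
    (by simp only [Fintype.card_sum, Fintype.card_unit, Fintype.card_fin]; exact ⟨3, by omega⟩)
    (quadOdd_isotropic (by omega))

theorem card_preG_eq {ι : Type} [Fintype ι] [DecidableEq ι] {F : Type} [Field F] [Finite F] {Q : QuadraticForm F (ι → F)}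
    {G : Type u} [Group G] {T : Subgroup G} [T.Normal] {eT : T ≃* POmega F (⇑Q)} (X : Subgroup G)
    (hZ : Subgroup.center (Omega F (⇑Q)) = ⊥) : Nat.card (preG eT X) = Nat.card (X.subgroupOf T) := by
  have h0 : Nat.card (X.subgroupOf T) = Nat.card ((X.subgroupOf T).map eT.toMonoidHom) :=
    (Subgroup.card_map_of_injective eT.injective).symm
  rw [h0]
  set M := (X.subgroupOf T).map eT.toMonoidHom with hM
  have h1 : Nat.card (preG eT X) = Nat.card (M.comap (QuotientGroup.mk' (Subgroup.center (Omega F (⇑Q))))) := by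
    unfold preG pre
    rw [Subgroup.card_map_of_injective (isometryGroup F (⇑Q)).subtype_injective,
      Subgroup.card_map_of_injective (Omega F (⇑Q)).subtype_injective]
  rw [h1]
  have hinj : Function.Injective (QuotientGroup.mk' (Subgroup.center (Omega F (⇑Q)))) := by
    rw [← MonoidHom.ker_eq_bot_iff, QuotientGroup.ker_mk', hZ]
  have h2 : M = (M.comap (QuotientGroup.mk' (Subgroup.center (Omega F (⇑Q))))).map
      (QuotientGroup.mk' (Subgroup.center (Omega F (⇑Q)))) :=
    (Subgroup.map_comap_eq_self_of_surjective (QuotientGroup.mk'_surjective _) M).symm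
  conv_rhs => rw [h2]
  exact (Subgroup.card_map_of_injective hinj).symm

/-- a subgroup of `Ω` with trivial centre of `Ω` and a core `P`: the order divides `|Aut Soc P|` -/
theorem card_dvd_aut {ι : Type} [Fintype ι] [DecidableEq ι] {F : Type} [Field F] [Finite F] {Q : (ι → F) → F}
    (hZ : Subgroup.center (Omega F Q) = ⊥) {H P : Subgroup (GL ι F)} (hH : H ≤ omegaGL Q) (hP : IsResidualCore H P) :
    Nat.card H ∣ Nat.card (MulAut (Soc P)) := by
  obtain ⟨φ, hφ⟩ := Cfsg.Agent.H269.U5.exists_act hP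
  refine Subgroup.card_dvd_of_injective φ ?_
  rw [injective_iff_map_eq_one]
  intro h hh
  have h1 : (h : GL ι F) ∈ scalars ι F := hφ h hh
  obtain ⟨x, hx, hxh⟩ := hH h.2
  obtain ⟨c, hc⟩ := h1
  have h2 : (⟨x, hx⟩ : Omega F Q) ∈ Subgroup.center (Omega F Q) := by
    rw [Subgroup.mem_center_iff]
    intro y
    apply Subtype.ext
    apply Subtype.ext
    change ((y : isometryGroup F Q) : GL ι F) * (x : GL ι F) = (x : GL ι F) * ((y : isometryGroup F Q) : GL ι F)
    have h3 : (x : GL ι F) = (h : GL ι F) := hxh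
    rw [h3, ← hc]
    apply Units.ext
    exact (Matrix.scalar_commute (c : F) (fun _ => Commute.all _ _) _).eq.symm
  rw [hZ, Subgroup.mem_bot] at h2
  apply Subtype.ext
  rw [← hxh]
  have h3 : x = 1 := congrArg Subtype.val h2
  rw [h3]
  rfl

theorem two_mul_lt {p f : ℕ} (hp3 : 3 ≤ p) (hf : 1 ≤ f) : 2 * f.factorization p < f := by
  have h1 : p ^ f.factorization p ≤ f := Nat.ordProj_le p (by omega)
  have h2 : ∀ v : ℕ, 2 * v < 3 ^ v := by
    intro v
    induction v with
    | zero => norm_num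
    | succ v ih =>
      rw [pow_succ]
      omega
  calc 2 * f.factorization p < 3 ^ f.factorization p := h2 _
    _ ≤ p ^ f.factorization p := Nat.pow_le_pow_left hp3 _
    _ ≤ f := h1

/-- the arithmetic -/
theorem num_a {p f a b e k T : ℕ} (hp : p.Prime) (hp2 : p ≠ 2) (hf : 1 ≤ f) (hT : T * 2 = (p ^ f) ^ 9 *
      (((p ^ f) ^ 2 - 1) * ((p ^ f) ^ 4 - 1) * ((p ^ f) ^ 6 - 1))) (h : a * b * e = T) (he : e ∣ 2 * f)
    (hk : a = (p ^ f) ^ 6 * ((p ^ f) ^ 2 - 1) * ((p ^ f) ^ 6 - 1) * k) (hkf : k ∣ 2 * f) :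
    (p ^ f) ^ 6 ∣ a ∧ 2 * f < b.factorization p ∧ b.factorization p ≤ 3 * f ∧ 2 * b ∣ (p ^ f) ^ 3 * ((p ^ f) ^ 4 - 1) := by
  have hp3 : 3 ≤ p := by
    have := hp.two_le
    omega
  have hq : 3 ≤ p ^ f := hp3.trans (Nat.le_self_pow (by omega) _)
  have hlt := two_mul_lt hp3 hf
  set q := p ^ f with hqd
  have hpos : ∀ n, 1 ≤ n → 0 < q ^ n - 1 := fun n hn => by
    have : 1 < q ^ n := Nat.one_lt_pow (by omega) (by omega)
    omega
  have b2 := hpos 2 (by norm_num)
  have b4 := hpos 4 (by norm_num)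
  have b6 := hpos 6 (by norm_num)
  have hq0 : 0 < q := by omega
  have h1 : 2 * k * b * e = q ^ 3 * (q ^ 4 - 1) := by
    apply Nat.eq_of_mul_eq_mul_left (show 0 < q ^ 6 * (q ^ 2 - 1) * (q ^ 6 - 1) by positivity)
    calc q ^ 6 * (q ^ 2 - 1) * (q ^ 6 - 1) * (2 * k * b * e) = (q ^ 6 * (q ^ 2 - 1) * (q ^ 6 - 1) * k) * b * e * 2 := by ring
      _ = T * 2 := by rw [← hk, h]
      _ = q ^ 9 * ((q ^ 2 - 1) * (q ^ 4 - 1) * (q ^ 6 - 1)) := hT
      _ = q ^ 6 * (q ^ 2 - 1) * (q ^ 6 - 1) * (q ^ 3 * (q ^ 4 - 1)) := by ring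
  have hne : 2 * k * b * e ≠ 0 := by
    rw [h1]
    positivity
  have he0 : e ≠ 0 := right_ne_zero_of_mul hne
  have h3 : 2 * k * b ≠ 0 := left_ne_zero_of_mul hne
  have hb0 : b ≠ 0 := right_ne_zero_of_mul h3
  have h4 : 2 * k ≠ 0 := left_ne_zero_of_mul h3
  have hk0 : k ≠ 0 := right_ne_zero_of_mul h4
  have hv : (2 * k * b * e).factorization p = (q ^ 3 * (q ^ 4 - 1)).factorization p := by rw [h1]
  have hq4 : (q ^ 4 - 1).factorization p = 0 := by
    apply Nat.factorization_eq_zero_of_not_dvd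
    intro hd
    have h5 : p ∣ q ^ 4 := (dvd_pow_self p (by omega : f ≠ 0)).trans (dvd_pow_self q (by norm_num))
    have h6 : p ∣ 1 := by
      have h7 := Nat.dvd_sub h5 hd
      have h8 : 1 ≤ q ^ 4 := Nat.one_le_pow _ _ hq0
      rwa [Nat.sub_sub_self h8] at h7
    exact hp.one_lt.ne' (Nat.dvd_one.1 h6)
  have h2p : (2 : ℕ).factorization p = 0 := by
    apply Nat.factorization_eq_zero_of_not_dvd
    intro hd
    exact hp2 ((Nat.prime_dvd_prime_iff_eq hp Nat.prime_two).1 hd)
  have h2f : (2 * f).factorization p = f.factorization p := by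
    rw [Nat.factorization_mul (by norm_num) (by omega), Finsupp.add_apply, h2p, zero_add]
  rw [Nat.factorization_mul h3 he0, Nat.factorization_mul h4 hb0, Nat.factorization_mul (by norm_num) hk0,
    Nat.factorization_mul (by positivity) (by omega)] at hv
  simp only [Finsupp.add_apply] at hv
  rw [hq4, h2p, hqd, ← pow_mul, hp.factorization_pow, Finsupp.single_eq_same] at hv
  have hke : k.factorization p ≤ f.factorization p := by
    rw [← h2f]
    exact (Nat.factorization_le_iff_dvd hk0 (by omega)).2 hkf p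
  have hee : e.factorization p ≤ f.factorization p := by
    rw [← h2f]
    exact (Nat.factorization_le_iff_dvd he0 (by omega)).2 he p
  refine ⟨?_, by omega, by omega, ?_⟩
  · rw [hk, mul_assoc, mul_assoc]
    exact Dvd.intro _ rfl
  · rw [← h1]
    exact ⟨k * e, by ring⟩

variable {F : Type} [Field F] [Fintype F] {G : Type u} [Group G] [Finite G] {T : Subgroup G} [T.Normal]
  {hG : Good (oddForm 3 F)} {eT : T ≃* POmega F (⇑(oddForm 3 F))} {hI : Ind (eP hG eT)} {X Y : Subgroup G} {p f : ℕ}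

/-- box BA : the orders, if `X ∩ T` has a normal subgroup `G_2(q)` -/
theorem bound_a (h : Ctx hI X Y p f 3) (_h31 : 31 ≤ p ^ f) {P : Subgroup (GL (Unit ⊕ (Fin 3 ⊕ Fin 3)) F)}
    (hP : IsResidualCore (preG eT X) P) (e : Nonempty (Soc P ≃* Lie.chevG2.group F)) :
    (p ^ f) ^ 6 ∣ Nat.card (preG eT X) ∧ 2 * f < (Nat.card (preG eT Y)).factorization p ∧
      (Nat.card (preG eT Y)).factorization p ≤ 3 * f ∧ 2 * Nat.card (preG eT Y) ∣ (p ^ f) ^ 3 * ((p ^ f) ^ 4 - 1) := by
  obtain ⟨eG⟩ := e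
  have hF : Fintype.card F = p ^ f := by rw [← Nat.card_eq_fintype_card]; exact h.card
  have hp := h.prime
  have := Fact.mk hp
  have hf := h.pos
  have hch : CharP F p := charP_of_card_eq_prime_pow hF
  have hodd : Odd (Fintype.card F) := by
    rw [hF]
    exact (hp.odd_of_ne_two h.podd).pow
  have hZ := center_odd7 (F := F) h.two_ne
  have hX := card_preG_eq (eT := eT) X hZ
  have hY := card_preG_eq (eT := eT) Y hZ
  obtain ⟨c, -, hcO, hc⟩ := h.fac.card0
  -- the outer automorphism group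
  have hT := h.fac.simple
  have e' : Nonempty (T ≃* POmega F (quadFormOdd 3 F)) := by rw [← coe_oddForm]; exact ⟨eT⟩
  obtain ⟨e'⟩ := e'
  have hZT : Subgroup.center T = ⊥ := by
    rcases (inferInstance : (Subgroup.center T).Normal).eq_bot_or_eq_top with h1 | h1
    · exact h1
    · exfalso
      apply h.fac.nonab
      refine ⟨⟨fun a b => ?_⟩⟩
      have h2 : a ∈ Subgroup.center T := by rw [h1]; trivial
      exact (Subgroup.mem_center_iff.1 h2 b).symm
  have hZP : Subgroup.center (POmega F (quadFormOdd 3 F)) = ⊥ := by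
    rw [Subgroup.eq_bot_iff_forall]
    intro x hx
    have h1 : e'.symm x ∈ Subgroup.center T := by
      rw [Subgroup.mem_center_iff]
      intro y
      apply e'.injective
      rw [map_mul, map_mul, e'.apply_symm_apply]
      exact Subgroup.mem_center_iff.1 hx (e' y)
    rw [hZT, Subgroup.mem_bot] at h1
    rw [← e'.apply_symm_apply x, h1, map_one]
  have hout : Nat.card (Cfsg.Out T) = 2 * f := by
    rw [H934.OutB.card_out_congr e', H163.PG.card_out_oodd hp hf hF hodd le_rfl hZP]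
  rw [hout] at hcO
  -- the order of `T`
  have hTc : Nat.card T * 2 = (p ^ f) ^ 9 * (((p ^ f) ^ 2 - 1) * ((p ^ f) ^ 4 - 1) * ((p ^ f) ^ 6 - 1)) := by
    have h1 := S0292.result (F := F) hF (by rw [← hF]; exact hodd) 3 le_rfl
    rw [← Nat.card_congr e'.toEquiv] at h1
    rw [mul_comm, h1]
    simp only [Finset.prod_range_succ, Finset.prod_range_zero, one_mul]
    norm_num
  -- the group `G_2(q)`
  have hS := hP.simple
  have hZS : Subgroup.center (Soc P) = ⊥ := by
    rcases (inferInstance : (Subgroup.center (Soc P)).Normal).eq_bot_or_eq_top with h1 | h1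
    · exact h1
    · exfalso
      apply hP.nonabelian
      refine ⟨⟨fun a b => ?_⟩⟩
      have h2 : a ∈ Subgroup.center (Soc P) := by rw [h1]; trivial
      exact (Subgroup.mem_center_iff.1 h2 b).symm
  have hcS : Nat.card (Soc P) = (p ^ f) ^ 6 * ((p ^ f) ^ 2 - 1) * ((p ^ f) ^ 6 - 1) := by
    rw [Nat.card_congr eG.toEquiv]
    exact S1059.result hF
  have hoS : Nat.card (Cfsg.Out (Soc P)) ∣ 2 * f := by
    rw [H934.OutB.card_out_congr eG, S2121.result p f hF (by omega)]
    split_ifs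
    · exact dvd_rfl
    · exact Dvd.intro_left _ rfl
  have h1 : Nat.card (Soc P) ∣ Nat.card (preG eT X) :=
    (Subgroup.card_quotient_dvd_card _).trans (Subgroup.card_dvd_of_le hP.le)
  obtain ⟨k, hk⟩ := h1
  have h2 := card_dvd_aut hZ preG_le_omega hP
  rw [← H163.PG.card_out_mul hZS, hk, mul_comm (Nat.card (Soc P)) k] at h2
  have h3 : k ∣ Nat.card (Cfsg.Out (Soc P)) := Nat.dvd_of_mul_dvd_mul_right (Nat.card_pos) h2
  rw [hcS] at hk
  have h4 := num_a (a := Nat.card (preG eT X)) (b := Nat.card (preG eT Y)) (e := c) (k := k) (T := Nat.card T) hp h.podd hf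
    hTc (by rw [hX, hY]; exact hc) hcO hk (h3.trans hoS)
  exact h4

end Cfsg.Agent.H430.Om7
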